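import Mathlib

/-!
Elements generating a finite field, and values of x³ + 12x lying in no proper subfield.
-/

set_option autoImplicit false

namespace CfsgLib.Generation

open Polynomial

variable {F : Type*} [Field F] [Fintype F]

/-- An additive subgroup closed under products containing an element that lies in no proper
subfield is everything. -/
theorem addSubgroup_eq_top {p f : ℕ} (hp : p.Prime) (hF : Fintype.card F = p ^ f) (γ : F)
    (hγ0 : γ ≠ 0) (hγ : ∀ d, 0 < d → d < f → γ ^ p ^ d ≠ γ) (Y : AddSubgroup F)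
    (hmem : γ ∈ Y) (hmul : ∀ a ∈ Y, ∀ b ∈ Y, a * b ∈ Y) : Y = ⊤ := by
  classical
  let R : Subring F :=
    { carrier := {y | ∀ a ∈ Y, y * a ∈ Y}
      one_mem' := fun a ha => by rwa [one_mul]
      mul_mem' := fun {y z} hy hz a ha => by rw [mul_assoc]; exact hy _ (hz a ha)
      zero_mem' := fun a _ => by rw [zero_mul]; exact Y.zero_mem
      add_mem' := fun {y z} hy hz a ha => by rw [add_mul]; exact Y.add_mem (hy a ha) (hz a ha)
      neg_mem' := fun {y} hy a ha => by rw [neg_mul]; exact Y.neg_mem (hy a ha) }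
  let S : Subfield F :=
    { R with
      inv_mem' := fun y hy => by
        rcases eq_or_ne y 0 with rfl | hy0
        · rw [inv_zero]; exact R.zero_mem
        · have h : y⁻¹ = y ^ (Fintype.card F - 2) := by
            have h2 : 2 ≤ Fintype.card F := Fintype.one_lt_card
            apply inv_eq_of_mul_eq_one_right
            rw [← pow_succ', show Fintype.card F - 2 + 1 = Fintype.card F - 1 by omega,
              FiniteField.pow_card_sub_one_eq_one y hy0]
          show y⁻¹ ∈ R
          rw [h]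
          exact R.pow_mem hy _ }
  have hγS : γ ∈ S := fun a ha => hmul _ hmem _ ha
  have hpow := Module.card_eq_pow_finrank (K := S) (V := F)
  rw [hF] at hpow
  obtain ⟨d, hdle, hd⟩ : ∃ d, d ≤ f ∧ Fintype.card S = p ^ d := by
    have hdvd : Fintype.card S ∣ p ^ f := by
      rw [hpow]; exact dvd_pow_self _ (Module.finrank_pos (R := S) (M := F)).ne'
    exact (Nat.dvd_prime_pow hp).1 hdvd
  have hd0 : 0 < d := by
    rcases Nat.eq_zero_or_pos d with h | h
    · have : 1 < Fintype.card S := Fintype.one_lt_card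
      rw [hd, h, pow_zero] at this
      exact absurd this (lt_irrefl 1)
    · exact h
  rcases hdle.lt_or_eq with hlt | heq
  · exfalso
    apply hγ d hd0 hlt
    have := FiniteField.pow_card (⟨γ, hγS⟩ : S)
    rw [hd] at this
    exact congrArg Subtype.val this
  · rw [eq_top_iff]
    intro y _
    have hall : ∀ z : F, z ∈ S := by
      intro z
      have hb : Function.Bijective (Subtype.val : S → F) :=
        (Fintype.bijective_iff_injective_and_card _).2
          ⟨Subtype.val_injective, by rw [hF, hd, heq]⟩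
      obtain ⟨⟨z', hz'⟩, rfl⟩ := hb.2 z
      exact hz'
    have := hall (y / γ) γ hmem
    rwa [div_mul_cancel₀ _ hγ0] at this

theorem sum_pow_lt (p h f : ℕ) (hp : 5 ≤ p) (hh : 2 * h ≤ f) (hh1 : 1 ≤ h) :
    3 * ∑ d ∈ Finset.Icc 1 h, p ^ d < p ^ f := by
  have key : ∀ k, ∑ d ∈ Finset.Icc 1 k, p ^ d + 2 ≤ 2 * p ^ k := by
    intro k
    induction k with
    | zero => simp
    | succ k ih =>
      rw [Finset.sum_Icc_succ_top (by omega)]
      have : 2 * p ^ k ≤ p ^ (k + 1) := by rw [pow_succ']; exact Nat.mul_le_mul_right _ (by omega)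
      omega
  have h1 : p ≤ p ^ h := Nat.le_self_pow (by omega) p
  have h2 : p ^ h * p ^ h ≤ p ^ f := by
    rw [← pow_add]; exact Nat.pow_le_pow_right (by omega) (by omega)
  have := key h
  nlinarith

/-- For |F| ≠ 4 there is a nonzero `m` with `m³ + 12 m` nonzero and in no proper subfield. -/
theorem exists_cubic_generator (p f : ℕ) [Fact p.Prime] [CharP F p] (hF : Fintype.card F = p ^ f)
    (h4 : Fintype.card F ≠ 4) :
    ∃ m : F, m ≠ 0 ∧ m ^ 3 + 12 * m ≠ 0 ∧
      ∀ d, 0 < d → d < f → d ∣ f → (m ^ 3 + 12 * m) ^ p ^ d ≠ m ^ 3 + 12 * m := by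
  classical
  have hp : p.Prime := Fact.out
  have hcard : 2 ≤ Fintype.card F := Fintype.one_lt_card
  by_cases h23 : p = 2 ∨ p = 3
  · have h12 : (12 : F) = 0 := by
      have : ((12 : ℕ) : F) = 0 := by
        rw [CharP.cast_eq_zero_iff F p]
        rcases h23 with rfl | rfl <;> norm_num
      exact_mod_cast this
    obtain ⟨g, hg⟩ := IsCyclic.exists_generator (α := Fˣ)
    have hord : orderOf g = Fintype.card F - 1 := by
      rw [orderOf_eq_card_of_forall_mem_zpowers hg, Nat.card_units, Nat.card_eq_fintype_card]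
    refine ⟨g, g.ne_zero, by rw [h12, zero_mul, add_zero]; exact pow_ne_zero 3 g.ne_zero, ?_⟩
    intro d hd0 hdf hdvd h
    rw [h12, zero_mul, add_zero, ← Units.val_pow_eq_pow_val, ← Units.val_pow_eq_pow_val] at h
    have h' : (g ^ 3) ^ p ^ d = g ^ 3 := Units.ext h
    have hpd : 1 ≤ p ^ d := Nat.one_le_pow _ _ hp.pos
    rw [← Nat.sub_add_cancel hpd, pow_succ, mul_eq_right, ← pow_mul] at h'
    have hdvd' := orderOf_dvd_of_pow_eq_one h'
    rw [hord, hF] at hdvd'
    have h2d : 2 ≤ p ^ d := le_trans hp.two_le (Nat.le_self_pow hd0.ne' p)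
    have hle := Nat.le_of_dvd (by omega) hdvd'
    have hsq : p ^ d * p ^ d ≤ p ^ f := by
      rw [← pow_add]
      obtain ⟨k, rfl⟩ := hdvd
      refine Nat.pow_le_pow_right hp.pos ?_
      have : 2 ≤ k := by
        by_contra hk
        interval_cases k <;> omega
      nlinarith
    have hle' : p ^ f + 2 ≤ 3 * p ^ d := by omega
    have hle2 : p ^ d ≤ 2 := by nlinarith
    apply h4
    rw [hF]
    have : p ^ d = 2 := by omega
    rw [this] at hsq hle'
    omega
  push Not at h23
  have hp5 : 5 ≤ p := by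
    have := hp.two_le
    by_contra hlt
    interval_cases p <;> first | omega | norm_num at hp
  by_cases hf : f ≤ 1
  · have h2 : (1 : F) ≠ 0 := one_ne_zero
    have hcast : ∀ k : ℕ, ¬ p ∣ k → (k : F) ≠ 0 := fun k hk h =>
      hk ((CharP.cast_eq_zero_iff F p k).1 h)
    by_cases h13 : p = 13
    · refine ⟨2, ?_, ?_, fun d hd0 hdf => by omega⟩
      · exact_mod_cast hcast 2 (by rw [h13]; norm_num)
      · have := hcast 32 (by rw [h13]; norm_num)
        norm_num at this ⊢
        exact this
    · refine ⟨1, h2, ?_, fun d hd0 hdf => by omega⟩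
      have := hcast 13 (by
        rw [Nat.prime_dvd_prime_iff_eq hp (by norm_num)]; exact h13)
      norm_num at this ⊢
      exact this
  set h := f / 2 with hh
  set P : F[X] := ∏ d ∈ Finset.Icc 1 h, ((X ^ 3 + C 12 * X) ^ p ^ d - (X ^ 3 + C 12 * X)) with hP
  set Q : F[X] := X ^ 3 + C 12 * X with hQ
  have hQdeg : Q.natDegree = 3 := by rw [hQ]; compute_degree!
  have hdeg : ∀ d, 1 ≤ d → (Q ^ p ^ d - Q).natDegree = 3 * p ^ d := by
    intro d hd
    rw [natDegree_sub_eq_left_of_natDegree_lt]
    · rw [natDegree_pow, hQdeg, mul_comm]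
    · rw [natDegree_pow, hQdeg]
      have : 1 < p ^ d := Nat.one_lt_pow (by omega) hp.one_lt
      omega
  have hPne : P ≠ 0 := by
    rw [hP, Finset.prod_ne_zero_iff]
    intro d hd h0
    have := hdeg d (Finset.mem_Icc.1 hd).1
    rw [h0, natDegree_zero] at this
    have : 0 < p ^ d := by positivity
    omega
  have hPdeg : P.natDegree < Fintype.card F := by
    refine lt_of_le_of_lt (natDegree_prod_le _ _) ?_
    rw [Finset.sum_congr rfl fun d hd => hdeg d (Finset.mem_Icc.1 hd).1, ← Finset.mul_sum, hF]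
    exact sum_pow_lt p h f hp5 (by omega) (by omega)
  obtain ⟨m, hm⟩ : ∃ m : F, P.eval m ≠ 0 := by
    by_contra hall
    push Not at hall
    exact hPne (eq_zero_of_natDegree_lt_card_of_eval_eq_zero P Function.injective_id hall hPdeg)
  simp only [hP, eval_prod, Finset.prod_ne_zero_iff, eval_sub, eval_pow, hQ, eval_add, eval_mul,
    eval_X, eval_C, sub_ne_zero] at hm
  have hne : m ^ 3 + 12 * m ≠ 0 := by
    intro h0
    apply hm 1 (Finset.mem_Icc.2 ⟨le_rfl, by omega⟩)
    rw [h0, zero_pow (pow_ne_zero _ hp.ne_zero)]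
  refine ⟨m, fun h0 => hne (by rw [h0]; ring), hne, fun d hd0 hdf hdvd => ?_⟩
  refine hm d (Finset.mem_Icc.2 ⟨hd0, ?_⟩)
  obtain ⟨k, rfl⟩ := hdvd
  have : 2 ≤ k := by
    by_contra hk
    interval_cases k <;> omega
  rw [hh, Nat.le_div_iff_mul_le two_pos]
  nlinarith

end CfsgLib.Generation
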