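import Mathlib
import Cfsg.Agent.Lib.Transvec.Basic

/-!
Generation of SL_n, n ≥ 3, by conjugates of one regular unipotent element.
-/

set_option autoImplicit false

namespace CfsgLib.Generation

open Matrix CfsgLib.Transvec
open scoped MatrixGroups

variable {F : Type*} [Field F] {n : ℕ}

/-- The `k`th coordinate vector (zero for `k ≥ n`). -/
def eVec (n : ℕ) (F : Type*) [Field F] (k : ℕ) : Fin n → F := fun i => if i.val = k then 1 else 0

/-- The upper regular unipotent matrix. -/
def upperUni (n : ℕ) (F : Type*) [Field F] : Matrix (Fin n) (Fin n) F :=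
  Matrix.of fun i j => if i.val = j.val ∨ i.val + 1 = j.val then 1 else 0

theorem eVec_eq_zero {k : ℕ} (hk : n ≤ k) : eVec n F k = 0 := by
  funext i
  have := i.isLt
  simp [eVec]; omega

theorem eVec_fin (i : Fin n) : eVec n F i.val = Pi.single i 1 := by
  funext j
  simp [eVec, Pi.single_apply, Fin.val_inj]

theorem mem_of_forall_eVec (K : AddSubgroup (Fin n → F)) (a : Fin n → F)
    (h : ∀ i : Fin n, a i ≠ 0 → a i • eVec n F i.val ∈ K) : a ∈ K := by
  have : a = ∑ i : Fin n, a i • eVec n F i.val := by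
    funext j
    simp [eVec, Finset.sum_apply, Fin.val_inj]
  rw [this]
  refine sum_mem fun i _ => ?_
  by_cases hi : a i = 0
  · simp [hi]
  · exact h i hi

theorem eVec_dot (k : ℕ) (a : Fin n → F) (hk : k < n) : eVec n F k ⬝ᵥ a = a ⟨k, hk⟩ := by
  simp [eVec, dotProduct, Fin.ext_iff]
  rw [Finset.sum_eq_single ⟨k, hk⟩]
  · simp
  · intro b _ hb
    simp [Fin.ext_iff] at hb
    simp [hb]
  · simp

theorem eVec_dot_eVec (k l : ℕ) (hl : l < n) :
    eVec n F k ⬝ᵥ eVec n F l = if k = l then 1 else 0 := by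
  rw [dotProduct_comm, eVec_dot l _ hl]
  simp [eVec, eq_comm]

theorem upperUni_mulVec_zero : upperUni n F *ᵥ eVec n F 0 = eVec n F 0 := by
  rcases Nat.eq_zero_or_pos n with rfl | hn
  · exact Subsingleton.elim _ _
  funext i
  rw [show eVec n F 0 = Pi.single (⟨0, hn⟩ : Fin n) 1 from eVec_fin ⟨0, hn⟩, mulVec_single_one]
  simp [upperUni, Pi.single_apply, Fin.ext_iff]

theorem upperUni_mulVec_succ (k : ℕ) (hk : k + 1 < n) :
    upperUni n F *ᵥ eVec n F (k + 1) = eVec n F (k + 1) + eVec n F k := by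
  funext i
  rw [show eVec n F (k + 1) = Pi.single (⟨k + 1, hk⟩ : Fin n) 1 from eVec_fin ⟨k + 1, hk⟩,
    mulVec_single_one]
  simp only [upperUni, Matrix.col_apply, Matrix.of_apply, Pi.add_apply, Pi.single_apply,
    Fin.ext_iff, eVec]
  rcases eq_or_ne i.val k with h | h
  · simp [h]
  rcases eq_or_ne i.val (k + 1) with h' | h'
  · simp [h']
  · simp [h, h']

theorem vecMul_upperUni_last (hn : 0 < n) :
    eVec n F (n - 1) ᵥ* upperUni n F = eVec n F (n - 1) := by
  have hlt : n - 1 < n := by omega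
  rw [show eVec n F (n - 1) = Pi.single (⟨n - 1, hlt⟩ : Fin n) 1 from eVec_fin ⟨n - 1, hlt⟩,
    single_one_vecMul]
  funext j
  have := j.isLt
  simp [upperUni, Matrix.row_apply, Pi.single_apply, Fin.ext_iff]
  congr 1
  simp only [eq_iff_iff]
  omega

theorem det_upperUni : (upperUni n F).det = 1 := by
  rw [det_of_upperTriangular]
  · simp [upperUni]
  · intro i j hij
    simp only [id] at hij
    have : j.val < i.val := hij
    simp [upperUni]
    omega

section Core

variable {M : Subgroup (GL (Fin n) F)}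

/-- Centres `a` with `transv a φ ∈ M`. -/
def centres (M : Subgroup (GL (Fin n) F)) (φ : Fin n → F) : AddSubgroup (Fin n → F) where
  carrier := {a | φ ⬝ᵥ a = 0 ∧ transv a φ ∈ M}
  zero_mem' := ⟨dotProduct_zero _, by
    have : transv (0 : Fin n → F) φ = 1 := gl_ext fun x => by
      rw [transv_mulVec (dotProduct_zero _)]; simp
    rw [this]; exact M.one_mem⟩
  add_mem' := fun {a b} ha hb => ⟨by rw [dotProduct_add, ha.1, hb.1, add_zero], by
    have e : transv a φ * transv b φ = transv (a + b) φ := gl_ext fun x => by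
      rw [mul_mulVec, transv_mulVec hb.1, transv_mulVec ha.1,
        transv_mulVec (by rw [dotProduct_add, ha.1, hb.1, add_zero]),
        dotProduct_add, dotProduct_smul, hb.1, smul_zero, add_zero, smul_add]
      abel
    rw [← e]; exact M.mul_mem ha.2 hb.2⟩
  neg_mem' := fun {a} ha => ⟨by rw [dotProduct_neg, ha.1, neg_zero], by
    have e : transv (-a) φ = (transv a φ)⁻¹ := by
      rw [transv_inv ha.1, ← neg_one_smul F a, transv_smul_left _ ha.1, neg_one_smul]
    rw [e]; exact M.inv_mem ha.2⟩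

theorem mem_centres {φ a : Fin n → F} : a ∈ centres M φ ↔ φ ⬝ᵥ a = 0 ∧ transv a φ ∈ M := Iff.rfl

/-- Commutator of two transvections. -/
theorem centres_comm {φ ψ a b : Fin n → F} (ha : a ∈ centres M φ) (hb : b ∈ centres M ψ)
    (hφb : φ ⬝ᵥ b = 0) : (ψ ⬝ᵥ a) • b ∈ centres M φ := by
  obtain ⟨ha0, ha⟩ := ha
  obtain ⟨hb0, hb⟩ := hb
  refine ⟨by rw [dotProduct_smul, hφb, smul_zero], ?_⟩
  have h1 := M.mul_mem (M.inv_mem ha) (M.mul_mem (M.mul_mem hb ha) (M.inv_mem hb))
  rw [conj_transv _ ha0] at h1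
  have e : φ ᵥ* (((transv b ψ)⁻¹ : GL (Fin n) F) : Matrix (Fin n) (Fin n) F) = φ := by
    rw [transv_inv hb0, transv_val (by rw [neg_dotProduct, hb0, neg_zero]), vecMul_add, vecMul_one,
      vecMul_vecMulVec, hφb, zero_smul, add_zero]
  rw [e, transv_mulVec hb0] at h1
  have e2 : transv a φ * transv ((ψ ⬝ᵥ a) • b) φ = transv (a + (ψ ⬝ᵥ a) • b) φ :=
    gl_ext fun x => by
      have h0 : φ ⬝ᵥ ((ψ ⬝ᵥ a) • b) = 0 := by rw [dotProduct_smul, hφb, smul_zero]
      rw [mul_mulVec, transv_mulVec h0, transv_mulVec ha0,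
        transv_mulVec (by rw [dotProduct_add, ha0, h0, add_zero]),
        dotProduct_add, dotProduct_smul, h0, smul_zero, add_zero, smul_add]
      abel
  rw [← e2, inv_mul_cancel_left] at h1
  exact h1

theorem centres_conj {φ a : Fin n → F} {g : GL (Fin n) F} (hg : g ∈ M) (ha : a ∈ centres M φ) :
    (g : Matrix (Fin n) (Fin n) F) *ᵥ a ∈
      centres M (φ ᵥ* ((g⁻¹ : GL (Fin n) F) : Matrix (Fin n) (Fin n) F)) := by
  refine ⟨by rw [vecMul_inv_dotProduct, ha.1], ?_⟩
  rw [← conj_transv g ha.1]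
  exact M.mul_mem (M.mul_mem hg ha.2) (M.inv_mem hg)

/-- Functionals all of whose transvections lie in `M`. -/
def fullForms (M : Subgroup (GL (Fin n) F)) : Submodule F (Fin n → F) where
  carrier := {φ | ∀ a, φ ⬝ᵥ a = 0 → transv a φ ∈ M}
  zero_mem' := fun a _ => by rw [transv_zero]; exact M.one_mem
  smul_mem' := fun t φ hφ a ha => by
    rcases eq_or_ne t 0 with rfl | ht
    · rw [zero_smul, transv_zero]; exact M.one_mem
    · rw [smul_dotProduct, smul_eq_mul, mul_eq_zero] at ha
      have ha' := ha.resolve_left ht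
      rw [← transv_smul_left t ha']
      exact hφ _ (by rw [dotProduct_smul, ha', smul_zero])
  add_mem' := fun {φ ψ} hφ hψ a ha => by
    by_cases hex : ∃ c, φ ⬝ᵥ c = 0 ∧ ψ ⬝ᵥ c = -1
    · obtain ⟨c, hc, hc'⟩ := hex
      have hg : transv c φ ∈ M := hφ c hc
      -- `ψ` moved by `transv c φ` is `φ + ψ`
      have e : ψ ᵥ* ((transv c φ : GL (Fin n) F) : Matrix (Fin n) (Fin n) F) = φ + ψ - (2 : F) • φ := by
        rw [transv_val hc, vecMul_add, vecMul_one, vecMul_vecMulVec, hc']
        module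
      have e' : ψ ᵥ* (((transv c φ)⁻¹ : GL (Fin n) F) : Matrix (Fin n) (Fin n) F) = φ + ψ := by
        rw [transv_inv hc, transv_val (by rw [neg_dotProduct, hc, neg_zero]), vecMul_add, vecMul_one,
          vecMul_vecMulVec, hc']
        module
      have hd : ψ ⬝ᵥ (((transv c φ)⁻¹ : GL (Fin n) F) : Matrix (Fin n) (Fin n) F) *ᵥ a = 0 := by
        rw [dotProduct_mulVec, e', ha]
      have := M.mul_mem (M.mul_mem hg (hψ _ hd)) (M.inv_mem hg)
      rwa [conj_transv _ hd, e', mulVec_inv_cancel] at this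
    · push Not at hex
      rcases eq_or_ne φ 0 with rfl | hφ0
      · rw [zero_add] at ha ⊢; exact hψ a ha
      obtain ⟨j, hj⟩ := Function.ne_iff.1 hφ0
      rw [Pi.zero_apply] at hj
      have hψeq : ψ = (ψ j / φ j) • φ := by
        funext i
        by_contra hne
        set c0 : Fin n → F := φ j • Pi.single i 1 - φ i • Pi.single j 1 with hc0
        have h1 : φ ⬝ᵥ c0 = 0 := by
          simp [hc0, dotProduct_sub, dotProduct_smul, dotProduct_single]; ring
        have h2 : ψ ⬝ᵥ c0 ≠ 0 := by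
          simp [hc0, dotProduct_sub, dotProduct_smul, dotProduct_single]
          intro h
          apply hne
          simp only [Pi.smul_apply, smul_eq_mul]
          field_simp
          linear_combination h
        refine hex ((-(ψ ⬝ᵥ c0)⁻¹) • c0) (by rw [dotProduct_smul, h1, smul_zero]) ?_
        rw [dotProduct_smul, smul_eq_mul, neg_mul, inv_mul_cancel₀ h2]
      have hsum : φ + ψ = (1 + ψ j / φ j) • φ := by
        rw [add_smul, one_smul, ← hψeq]
      rw [hsum] at ha ⊢
      rcases eq_or_ne (1 + ψ j / φ j) 0 with h0 | h0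
      · rw [h0, zero_smul, transv_zero]; exact M.one_mem
      · rw [smul_dotProduct, smul_eq_mul, mul_eq_zero] at ha
        have ha' := ha.resolve_left h0
        rw [← transv_smul_left _ ha']
        exact hφ _ (by rw [dotProduct_smul, ha', smul_zero])

theorem fullForms_vecMul {φ : Fin n → F} {g : GL (Fin n) F} (hg : g ∈ M) (hφ : φ ∈ fullForms M) :
    φ ᵥ* (g : Matrix (Fin n) (Fin n) F) ∈ fullForms M := by
  intro a ha
  have hd : φ ⬝ᵥ ((g : Matrix (Fin n) (Fin n) F) *ᵥ a) = 0 := by rw [dotProduct_mulVec, ha]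
  have := M.mul_mem (M.mul_mem (M.inv_mem hg) (hφ _ hd)) hg
  have e := conj_transv g⁻¹ hd
  rw [inv_inv, inv_mulVec_cancel] at e
  rw [← e]
  exact this

/-- A lower regular unipotent, the upper one and one transvection with a generator of the field
generate a group containing SL. -/
theorem specialLinear_le_of_mem [Fintype F] (hn : 3 ≤ n) (b : ℕ → F) (hb : ∀ k, b k ≠ 0)
    (u v : GL (Fin n) F) (hu : u ∈ M) (hv : v ∈ M)
    (huv : (u : Matrix (Fin n) (Fin n) F) = upperUni n F)
    (hvk : ∀ k, k < n → (v : Matrix (Fin n) (Fin n) F) *ᵥ eVec n F k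
      = eVec n F k + b k • eVec n F (k + 1))
    (μ : F) (hμ : μ = (eVec n F (n - 1) ᵥ* ((v⁻¹ : GL (Fin n) F) : Matrix (Fin n) (Fin n) F)) ⬝ᵥ
      eVec n F 0 * b 0)
    (g : Fˣ) (hg : ∀ y : Fˣ, y ∈ Subgroup.zpowers g)
    (hT : transv ((μ⁻¹ * g) • eVec n F 0) (eVec n F (n - 1)) ∈ M) :
    Cfsg.Geo.specialLinear (Fin n) F ≤ M := by
  classical
  set φ := eVec n F (n - 1) with hφ
  set ψ := φ ᵥ* ((v⁻¹ : GL (Fin n) F) : Matrix (Fin n) (Fin n) F) with hψ
  have hφk : ∀ k, k + 1 < n → φ ⬝ᵥ eVec n F k = 0 := fun k hk => by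
    rw [hφ, eVec_dot_eVec _ _ (by omega), if_neg (by omega)]
  have hφu : φ ᵥ* ((u⁻¹ : GL (Fin n) F) : Matrix (Fin n) (Fin n) F) = φ := by
    have h := congrArg (fun x => x ᵥ* ((u⁻¹ : GL (Fin n) F) : Matrix (Fin n) (Fin n) F))
      (vecMul_upperUni_last (F := F) (n := n) (by omega))
    simp only [← huv, vecMul_vecMul, ← Units.val_mul, mul_inv_cancel, Units.val_one, vecMul_one] at h
    exact h.symm
  -- the values of `ψ` on the coordinate vectors do not vanish
  have hψrec : ∀ k, k < n → ψ ⬝ᵥ eVec n F k + b k * (ψ ⬝ᵥ eVec n F (k + 1))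
      = if n - 1 = k then 1 else 0 := fun k hk => by
    have := vecMul_inv_dotProduct v φ (eVec n F k)
    rw [hvk k hk, hφ, eVec_dot_eVec _ _ hk, dotProduct_add, dotProduct_smul, smul_eq_mul] at this
    exact this
  have hψne : ∀ j, j < n → ψ ⬝ᵥ eVec n F (n - 1 - j) ≠ 0 := by
    intro j
    induction j with
    | zero =>
      intro _ h0
      have := hψrec (n - 1) (by omega)
      rw [Nat.sub_add_cancel (by omega), eVec_eq_zero le_rfl, dotProduct_zero, mul_zero,
        add_zero, if_pos rfl] at this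
      rw [Nat.sub_zero, this] at h0
      exact one_ne_zero h0
    | succ j ih =>
      intro hj h0
      have := hψrec (n - 1 - (j + 1)) (by omega)
      rw [h0, zero_add, if_neg (by omega), show n - 1 - (j + 1) + 1 = n - 1 - j by omega,
        mul_eq_zero] at this
      rcases this with h | h
      · exact hb _ h
      · exact ih (by omega) h
  have hψ0 : ψ ⬝ᵥ eVec n F 0 ≠ 0 := by simpa using hψne (n - 1) (by omega)
  have hμ0 : μ ≠ 0 := by rw [hμ]; exact mul_ne_zero hψ0 (hb 0)
  set K := centres M φ with hK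
  -- step along `v`
  have hstep : ∀ (k : ℕ) (s t : F), k + 2 < n → s • eVec n F 0 ∈ K → t • eVec n F k ∈ K →
      (ψ ⬝ᵥ eVec n F 0 * s * t) • (eVec n F k + b k • eVec n F (k + 1)) ∈ K := by
    intro k s t hk hs ht
    have h1 := centres_conj hv ht
    rw [mulVec_smul, hvk k (by omega)] at h1
    have h2 := centres_comm hs h1 (by
      rw [dotProduct_smul, dotProduct_add, dotProduct_smul, hφk k (by omega), hφk (k + 1) (by omega)]
      simp)
    rw [dotProduct_smul, smul_smul, smul_eq_mul] at h2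
    rwa [show ψ ⬝ᵥ eVec n F 0 * s * t = s * (ψ ⬝ᵥ eVec n F 0) * t by ring]
  -- shifting down by `u`
  have hdown : ∀ (k : ℕ) (s t : F), k + 2 < n →
      s • eVec n F k + t • eVec n F (k + 1) ∈ K → k = 0 → t • eVec n F 0 ∈ K := by
    intro k s t hk hmem hk0
    subst hk0
    have h1 := centres_conj hu hmem
    rw [hφu] at h1
    have h2 := K.sub_mem h1 hmem
    rw [mulVec_add, mulVec_smul, mulVec_smul, huv, upperUni_mulVec_zero,
      upperUni_mulVec_succ 0 (by omega)] at h2
    convert h2 using 1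
    module
  have hmul : ∀ s : F, s • eVec n F 0 ∈ K → (μ⁻¹ * g) • eVec n F 0 ∈ K →
      (s * g) • eVec n F 0 ∈ K := by
    intro s hs hc
    have h := hstep 0 s (μ⁻¹ * g) (by omega) hs hc
    rw [smul_add, smul_smul] at h
    have h' := hdown 0 _ _ (by omega) h rfl
    have e : ψ ⬝ᵥ eVec n F 0 * s * (μ⁻¹ * g) * b 0 = s * g := by
      rw [show ψ ⬝ᵥ eVec n F 0 * s * (μ⁻¹ * g) * b 0
        = (ψ ⬝ᵥ eVec n F 0 * b 0) * μ⁻¹ * (s * g) by ring, ← hμ, mul_inv_cancel₀ hμ0, one_mul]
    rwa [e] at h'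
  have hc : (μ⁻¹ * g) • eVec n F 0 ∈ K :=
    ⟨by rw [dotProduct_smul, hφk 0 (by omega), smul_zero], hT⟩
  have hpow : ∀ k : ℕ, (μ⁻¹ * (g : F) ^ (k + 1)) • eVec n F 0 ∈ K := by
    intro k
    induction k with
    | zero => simpa using hc
    | succ k ih => simpa [pow_succ, mul_assoc] using hmul _ ih hc
  have hall0 : ∀ t : F, t • eVec n F 0 ∈ K := by
    intro t
    rcases eq_or_ne t 0 with rfl | ht
    · rw [zero_smul]; exact K.zero_mem
    obtain ⟨k, hk⟩ : ∃ k : ℕ, g ^ k = (Units.mk0 (μ * t) (mul_ne_zero hμ0 ht)) / g := by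
      have := hg ((Units.mk0 (μ * t) (mul_ne_zero hμ0 ht)) / g)
      rw [← mem_powers_iff_mem_zpowers] at this
      exact Submonoid.mem_powers_iff _ _ |>.1 this
    have hk' : (g : F) ^ (k + 1) = μ * t := by
      have := congrArg Units.val (eq_div_iff_mul_eq'.1 hk)
      simpa [pow_succ] using this
    have := hpow k
    rwa [hk', ← mul_assoc, inv_mul_cancel₀ hμ0, one_mul] at this
  have hall : ∀ k, k + 1 < n → ∀ t : F, t • eVec n F k ∈ K := by
    intro k
    induction k with
    | zero => exact fun _ => hall0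
    | succ k ih =>
      intro hk t
      have h := hstep k (ψ ⬝ᵥ eVec n F 0)⁻¹ (t / b k) (by omega) (hall0 _) (ih (by omega) _)
      rw [mul_inv_cancel₀ hψ0, one_mul, smul_add, smul_smul, div_mul_cancel₀ _ (hb k)] at h
      exact (K.add_mem_cancel_left (ih (by omega) _)).1 h
  have hφfull : φ ∈ fullForms M := by
    intro a ha
    refine (mem_of_forall_eVec K a fun i hi => ?_).2
    refine hall i.val ?_ _
    by_contra hlt
    apply hi
    have hin : n - 1 < n := by omega
    rw [hφ, eVec_dot _ _ hin] at ha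
    have : i = ⟨n - 1, hin⟩ := Fin.ext (by have := i.isLt; simp; omega)
    rwa [this]
  have hrow : ∀ k, k + 1 < n → eVec n F (k + 1) ᵥ* (v : Matrix (Fin n) (Fin n) F)
      = eVec n F (k + 1) + b k • eVec n F k := by
    intro k hk
    funext j
    have h := congrArg (fun x => eVec n F (k + 1) ⬝ᵥ x) (hvk j.val j.isLt)
    simp only [dotProduct_mulVec, dotProduct_add, dotProduct_smul] at h
    rw [dotProduct_comm, eVec_dot j.val _ j.isLt, dotProduct_comm, eVec_dot j.val _ j.isLt,
      eVec_dot (k + 1) _ hk] at h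
    simp only [Fin.eta] at h
    rw [h]
    simp only [eVec, Pi.add_apply, Pi.smul_apply, smul_eq_mul]
    rcases eq_or_ne j.val k with e | e
    · simp [e]
    · simp [e, Ne.symm e]
  have hforms : ∀ j, j < n → eVec n F (n - 1 - j) ∈ fullForms M := by
    intro j
    induction j with
    | zero => intro _; simpa [← hφ] using hφfull
    | succ j ih =>
      intro hj
      have h1 := ih (by omega)
      have h2 := fullForms_vecMul hv h1
      set k := n - 1 - (j + 1) with hk
      rw [show n - 1 - j = k + 1 by omega] at h1 h2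
      rw [hrow k (by omega)] at h2
      have h3 := (fullForms M).sub_mem h2 h1
      rw [add_sub_cancel_left] at h3
      simpa [smul_smul, inv_mul_cancel₀ (hb k)] using (fullForms M).smul_mem (b k)⁻¹ h3
  refine specialLinear_le fun a χ hχ => ?_
  refine (mem_of_forall_eVec (fullForms M).toAddSubgroup χ fun i _ => ?_) a hχ
  have := hforms (n - 1 - i.val) (by have := i.isLt; omega)
  rw [show n - 1 - (n - 1 - i.val) = i.val by have := i.isLt; omega] at this
  exact (fullForms M).smul_mem _ this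

end Core

end CfsgLib.Generation
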