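import Mathlib
import Cfsg.Agent.Lib.Generation.SLUnipotent
import Cfsg.Agent.Lib.Generation.FieldClosure

/-!
Two conjugate regular unipotents generating SL₃(q), q ≠ 4.
-/

set_option autoImplicit false

namespace CfsgLib.Generation

open Matrix CfsgLib.Transvec
open scoped MatrixGroups

variable {F : Type*} [Field F]

/-- The lower regular unipotent. -/
def lowerUni3 (F : Type*) [Field F] : Matrix.SpecialLinearGroup (Fin 3) F :=
  ⟨!![1, 0, 0; 1, 1, 0; 0, 1, 1], by simp [det_fin_three]⟩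

/-- The second unipotent. -/
def secondUni3 (m : F) : Matrix.SpecialLinearGroup (Fin 3) F :=
  ⟨!![-1, 2 - m, 8; 1, m - 1, m - 6; -1, 1 - m, 5 - m], by simp [det_fin_three]; ring⟩

/-- A conjugating element. -/
def conjUni3 (m : F) : Matrix.SpecialLinearGroup (Fin 3) F :=
  ⟨!![1, -2, -(2 + m); 0, 1, 2; 0, -1, -1], by simp [det_fin_three]; ring⟩

theorem secondUni3_eq_conj (m : F) :
    secondUni3 m = conjUni3 m * lowerUni3 F * (conjUni3 m)⁻¹ := by
  rw [eq_mul_inv_iff_mul_eq]
  apply Subtype.ext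
  show (secondUni3 m).1 * (conjUni3 m).1 = (conjUni3 m).1 * (lowerUni3 F).1
  ext i j
  fin_cases i <;> fin_cases j <;>
    simp [secondUni3, conjUni3, lowerUni3, Matrix.mul_apply, Fin.sum_univ_three] <;> ring

theorem lowerUni3_regular :
    IsNilpotent ((lowerUni3 F).1 - 1) ∧ ((lowerUni3 F).1 - 1) ^ (3 - 1) ≠ 0 := by
  refine ⟨⟨3, ?_⟩, fun h => ?_⟩
  · ext i j
    fin_cases i <;> fin_cases j <;>
      simp [lowerUni3, pow_succ, Matrix.mul_apply, Fin.sum_univ_three, Matrix.one_apply]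
  · have := congrFun (congrFun h 2) 0
    simp [lowerUni3, pow_succ, Matrix.mul_apply, Fin.sum_univ_three, Matrix.one_apply] at this

theorem toGL_val {n : ℕ} (g : Matrix.SpecialLinearGroup (Fin n) F) :
    ((Matrix.SpecialLinearGroup.toGL g : GL (Fin n) F) : Matrix (Fin n) (Fin n) F) = g.1 := rfl

/-- A subgroup containing the lower regular unipotent and a root subgroup is everything. -/
theorem eq_top_of_lower_and_root (C : Subgroup (Matrix.SpecialLinearGroup (Fin 3) F))
    (hLC : lowerUni3 F ∈ C)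
    (h0all : ∀ t : F, t • eVec 3 F 0 ∈ centres (C.map Matrix.SpecialLinearGroup.toGL) (eVec 3 F 2)) :
    C = ⊤ := by
  classical
  set M := C.map Matrix.SpecialLinearGroup.toGL with hM
  set L : GL (Fin 3) F := Matrix.SpecialLinearGroup.toGL (lowerUni3 F) with hL
  have hLM : L ∈ M := Subgroup.mem_map_of_mem _ hLC
  set φ := eVec 3 F 2 with hφ
  set K := centres M φ with hK
  set ψ := φ ᵥ* ((L⁻¹ : GL (Fin 3) F) : Matrix (Fin 3) (Fin 3) F) with hψ
  have hLinv : ((L⁻¹ : GL (Fin 3) F) : Matrix (Fin 3) (Fin 3) F)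
      = !![1, 0, 0; -1, 1, 0; 1, -1, 1] := by
    refine Units.inv_eq_of_mul_eq_one_right ?_
    rw [hL, toGL_val]
    ext i j
    fin_cases i <;> fin_cases j <;> simp [lowerUni3, Matrix.mul_apply, Fin.sum_univ_three]
  have hψ0 : ψ ⬝ᵥ eVec 3 F 0 = 1 := by
    simp [hψ, hLinv, hφ, eVec, vecMul, dotProduct, Fin.sum_univ_three, vecHead, vecTail]
  have hL0 : ∀ t : F, (L : Matrix (Fin 3) (Fin 3) F) *ᵥ (t • eVec 3 F 0)
      = t • (eVec 3 F 0 + eVec 3 F 1) := by
    intro t
    rw [hL, toGL_val]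
    funext i
    fin_cases i <;> simp [lowerUni3, eVec, Matrix.mulVec, dotProduct, Fin.sum_univ_three]
  have h01 : ∀ s t : F, s • eVec 3 F 0 ∈ K → t • eVec 3 F 0 ∈ K →
      (s * t) • (eVec 3 F 0 + eVec 3 F 1) ∈ K := by
    intro s t hs ht
    have h1 := centres_conj hLM ht
    rw [hL0] at h1
    have h2 := centres_comm hs h1 (by simp [hφ, eVec, dotProduct, Fin.sum_univ_three])
    rwa [dotProduct_smul, ← hψ, hψ0, smul_eq_mul, mul_one, smul_smul] at h2
  have h1all : ∀ t : F, t • eVec 3 F 1 ∈ K := by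
    intro t
    have h := h01 t 1 (h0all t) (h0all 1)
    rw [mul_one, smul_add] at h
    exact (K.add_mem_cancel_left (h0all t)).1 h
  have h2 : φ ∈ fullForms M := by
    intro a ha
    refine (mem_of_forall_eVec K a fun i hi => ?_).2
    fin_cases i
    · exact h0all _
    · exact h1all _
    · exfalso; apply hi
      simpa [hφ, eVec, dotProduct, Fin.sum_univ_three] using ha
  have h1 : eVec 3 F 1 ∈ fullForms M := by
    have h := (fullForms M).sub_mem (fullForms_vecMul hLM h2) h2
    convert h using 1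
    rw [hL, toGL_val]
    funext i
    fin_cases i <;> simp [hφ, lowerUni3, eVec, vecMul, dotProduct, Fin.sum_univ_three, vecHead, vecTail]
  have h0 : eVec 3 F 0 ∈ fullForms M := by
    have h := (fullForms M).sub_mem (fullForms_vecMul hLM h1) h1
    convert h using 1
    rw [hL, toGL_val]
    funext i
    fin_cases i <;> simp [lowerUni3, eVec, vecMul, dotProduct, Fin.sum_univ_three, vecHead, vecTail]
  have hle : Cfsg.Geo.specialLinear (Fin 3) F ≤ M := by
    refine specialLinear_le fun a χ hχ =>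
      (mem_of_forall_eVec (fullForms M).toAddSubgroup χ fun i _ => ?_) a hχ
    refine (fullForms M).smul_mem _ ?_
    fin_cases i
    · exact h0
    · exact h1
    · exact h2
  rw [eq_top_iff]
  intro x _
  have hx : Matrix.SpecialLinearGroup.toGL x ∈ M := hle ((mem_specialLinear_iff _).2 x.2)
  obtain ⟨y, hy, hxy⟩ := Subgroup.mem_map.1 hx
  have : y = x := Subtype.ext (congrArg Units.val hxy)
  rwa [this] at hy


theorem closure_pair_eq_top [Fintype F] (p f : ℕ) [Fact p.Prime] [CharP F p]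
    (hF : Fintype.card F = p ^ f) (m : F) (hm : m ≠ 0) (hγ0 : m ^ 3 + 12 * m ≠ 0)
    (hγ : ∀ d, 0 < d → d < f → d ∣ f → (m ^ 3 + 12 * m) ^ p ^ d ≠ m ^ 3 + 12 * m) :
    Subgroup.closure ({lowerUni3 F, secondUni3 m} : Set (Matrix.SpecialLinearGroup (Fin 3) F)) = ⊤ := by
  classical
  set C := Subgroup.closure ({lowerUni3 F, secondUni3 m} : Set (Matrix.SpecialLinearGroup (Fin 3) F))
  set M := C.map Matrix.SpecialLinearGroup.toGL with hM
  set L : GL (Fin 3) F := Matrix.SpecialLinearGroup.toGL (lowerUni3 F) with hL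
  set W : GL (Fin 3) F := Matrix.SpecialLinearGroup.toGL (lowerUni3 F * secondUni3 m) with hW
  have hLM : L ∈ M := Subgroup.mem_map_of_mem _ (Subgroup.subset_closure (by simp))
  have hWM : W ∈ M := Subgroup.mem_map_of_mem _
    (C.mul_mem (Subgroup.subset_closure (by simp)) (Subgroup.subset_closure (by simp)))
  have hWval : (W : Matrix (Fin 3) (Fin 3) F) = !![-1, 2 - m, 8; 0, 1, 2 + m; 0, 0, -1] := by
    rw [hW, toGL_val, Matrix.SpecialLinearGroup.coe_mul]
    ext i j
    fin_cases i <;> fin_cases j <;>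
      simp [lowerUni3, secondUni3, Matrix.mul_apply, Fin.sum_univ_three] <;> ring
  set φ := eVec 3 F 2 with hφ
  set K := centres M φ with hK
  set ψ := φ ᵥ* ((L⁻¹ : GL (Fin 3) F) : Matrix (Fin 3) (Fin 3) F) with hψ
  have hLinv : ((L⁻¹ : GL (Fin 3) F) : Matrix (Fin 3) (Fin 3) F)
      = !![1, 0, 0; -1, 1, 0; 1, -1, 1] := by
    refine Units.inv_eq_of_mul_eq_one_right ?_
    rw [hL, toGL_val]
    ext i j
    fin_cases i <;> fin_cases j <;> simp [lowerUni3, Matrix.mul_apply, Fin.sum_univ_three]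
  have hψ0 : ψ ⬝ᵥ eVec 3 F 0 = 1 := by
    simp [hψ, hLinv, hφ, eVec, vecMul, dotProduct, Fin.sum_univ_three, vecHead, vecTail]
  have hT : (-(12 + m ^ 2)) • eVec 3 F 0 ∈ K := by
    refine ⟨by simp [hφ, eVec, dotProduct, Fin.sum_univ_three], ?_⟩
    have e : transv ((-(12 + m ^ 2)) • eVec 3 F 0) φ = W * W := by
      apply Units.ext
      rw [transv_val (by simp [hφ, eVec, dotProduct, Fin.sum_univ_three]), Units.val_mul, hWval]
      ext i j
      fin_cases i <;> fin_cases j <;>
        simp [hφ, eVec, vecMulVec, Matrix.mul_apply, Fin.sum_univ_three, Matrix.one_apply] <;> ring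
    rw [e]; exact M.mul_mem hWM hWM
  have hL0 : ∀ t : F, (L : Matrix (Fin 3) (Fin 3) F) *ᵥ (t • eVec 3 F 0)
      = t • (eVec 3 F 0 + eVec 3 F 1) := by
    intro t
    rw [hL, toGL_val]
    funext i
    fin_cases i <;> simp [lowerUni3, eVec, Matrix.mulVec, dotProduct, Fin.sum_univ_three]
  have h01 : ∀ s t : F, s • eVec 3 F 0 ∈ K → t • eVec 3 F 0 ∈ K →
      (s * t) • (eVec 3 F 0 + eVec 3 F 1) ∈ K := by
    intro s t hs ht
    have h1 := centres_conj hLM ht
    rw [hL0] at h1
    have h2 := centres_comm hs h1 (by simp [hφ, eVec, dotProduct, Fin.sum_univ_three])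
    rwa [dotProduct_smul, ← hψ, hψ0, smul_eq_mul, mul_one, smul_smul] at h2
  have hWfix : ∀ a, a ∈ K → -((W : Matrix (Fin 3) (Fin 3) F) *ᵥ a) ∈ K := by
    intro a ha
    have h1 := centres_conj hWM ha
    have e : φ ᵥ* ((W⁻¹ : GL (Fin 3) F) : Matrix (Fin 3) (Fin 3) F) = -φ := by
      have h0 : φ ᵥ* (W : Matrix (Fin 3) (Fin 3) F) = -φ := by
        rw [hWval]
        funext i
        fin_cases i <;> simp [hφ, eVec, vecMul, dotProduct, Fin.sum_univ_three]
      have := congrArg (fun x => x ᵥ* ((W⁻¹ : GL (Fin 3) F) : Matrix (Fin 3) (Fin 3) F)) h0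
      simp only [vecMul_vecMul, ← Units.val_mul, mul_inv_cancel, Units.val_one, vecMul_one,
        neg_vecMul] at this
      exact neg_eq_iff_eq_neg.1 this.symm
    rw [e] at h1
    obtain ⟨h2, h3⟩ := h1
    have h2' : φ ⬝ᵥ ((W : Matrix (Fin 3) (Fin 3) F) *ᵥ a) = 0 := by simpa using h2
    refine ⟨by rw [dotProduct_neg, h2', neg_zero], ?_⟩
    rw [← neg_one_smul F ((W : Matrix (Fin 3) (Fin 3) F) *ᵥ a), transv_smul_left _ h2',
      neg_one_smul]
    exact h3
  have hmul : ∀ s t : F, s • eVec 3 F 0 ∈ K → t • eVec 3 F 0 ∈ K → (m * (s * t)) • eVec 3 F 0 ∈ K := by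
    intro s t hs ht
    have h1 := h01 s t hs ht
    have h2 := K.add_mem h1 (hWfix _ h1)
    convert h2 using 1
    rw [hWval]
    funext i
    fin_cases i <;> simp [eVec, Matrix.mulVec, dotProduct, Fin.sum_univ_three] <;> ring
  let Y : AddSubgroup F :=
    { carrier := {y | (y / m) • eVec 3 F 0 ∈ K}
      zero_mem' := by simp
      add_mem' := fun {a b} ha hb => by
        simpa [add_div, add_smul] using K.add_mem ha hb
      neg_mem' := fun {a} ha => by
        simpa [neg_div] using K.neg_mem ha }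
  have hY : Y = ⊤ := by
    refine addSubgroup_eq_top (Fact.out : p.Prime) hF (-(m ^ 3 + 12 * m)) (neg_ne_zero.2 hγ0) ?_ Y ?_ ?_
    · intro d hd0 hdf
      by_cases hdvd : d ∣ f
      · intro h
        rw [← iterateFrobenius_def, map_neg, iterateFrobenius_def] at h
        exact hγ d hd0 hdf hdvd (neg_injective h)
      · intro h
        -- pass to the gcd of `d` and `f`
        have hper : ∀ k, Function.IsPeriodicPt (iterateFrobenius F p 1) k (-(m ^ 3 + 12 * m)) ↔
            (-(m ^ 3 + 12 * m)) ^ p ^ k = -(m ^ 3 + 12 * m) := by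
          intro k
          rw [Function.IsPeriodicPt, Function.IsFixedPt, ← coe_iterateFrobenius_mul, one_mul,
            iterateFrobenius_def]
        have h2 : Function.IsPeriodicPt (iterateFrobenius F p 1) f (-(m ^ 3 + 12 * m)) := by
          rw [hper, ← hF, FiniteField.pow_card]
        have h3 := (hper _).1 (((hper d).2 h).gcd h2)
        rw [← iterateFrobenius_def, map_neg, iterateFrobenius_def] at h3
        exact hγ (Nat.gcd d f) (Nat.gcd_pos_of_pos_left _ hd0)
          (lt_of_le_of_lt (Nat.le_of_dvd hd0 (Nat.gcd_dvd_left d f)) hdf) (Nat.gcd_dvd_right d f)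
          (neg_injective h3)
    · show (-(m ^ 3 + 12 * m) / m) • eVec 3 F 0 ∈ K
      rw [show -(m ^ 3 + 12 * m) / m = -(12 + m ^ 2) by field_simp; ring]
      exact hT
    · intro a ha b hb
      show (a * b / m) • eVec 3 F 0 ∈ K
      rw [show a * b / m = m * ((a / m) * (b / m)) by field_simp]
      exact hmul _ _ ha hb
  have h0all : ∀ t : F, t • eVec 3 F 0 ∈ K := by
    intro t
    have : t * m ∈ Y := by rw [hY]; trivial
    have h : (t * m / m) • eVec 3 F 0 ∈ K := this
    rwa [mul_div_cancel_right₀ _ hm] at h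
  exact eq_top_of_lower_and_root _ (Subgroup.subset_closure (by simp)) h0all

/-- Existence, for `q ≠ 4`. -/
theorem exists_pair_of_card_ne_four [Fintype F] (h4 : Fintype.card F ≠ 4) :
    ∃ u g : Matrix.SpecialLinearGroup (Fin 3) F,
      IsNilpotent (u.1 - 1) ∧ (u.1 - 1) ^ (3 - 1) ≠ 0 ∧
        Subgroup.closure ({u, g * u * g⁻¹} : Set (Matrix.SpecialLinearGroup (Fin 3) F)) = ⊤ := by
  obtain ⟨p, hchar⟩ := CharP.exists F
  obtain ⟨n, hp, hn⟩ := FiniteField.card F p
  have : Fact p.Prime := ⟨hp⟩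
  obtain ⟨m, hm, hγ0, hγ⟩ := exists_cubic_generator p n hn h4
  refine ⟨lowerUni3 F, conjUni3 m, lowerUni3_regular.1, lowerUni3_regular.2, ?_⟩
  rw [← secondUni3_eq_conj]
  exact closure_pair_eq_top p n hn m hm hγ0 hγ

end CfsgLib.Generation
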