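import Mathlib
import Cfsg.Agent.Lib.Generation.SL3Pair

/-!
Two conjugate regular unipotents generating SL₃(4).
-/

set_option autoImplicit false

namespace CfsgLib.Generation

open Matrix CfsgLib.Transvec
open scoped MatrixGroups

variable {F : Type*} [Field F]

/-- Addition table of the field of four elements. -/
def add4 (a b : Fin 4) : Fin 4 := ![![0, 1, 2, 3], ![1, 0, 3, 2], ![2, 3, 0, 1], ![3, 2, 1, 0]] a b

/-- Multiplication table of the field of four elements. -/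
def mul4 (a b : Fin 4) : Fin 4 := ![![0, 0, 0, 0], ![0, 1, 2, 3], ![0, 2, 3, 1], ![0, 3, 1, 2]] a b

/-- Interpretation of the tables. -/
def val4 (ω : F) : Fin 4 → F := ![0, 1, ω, 1 + ω]

/-- Matrix product on tables. -/
def mulM4 (A B : Fin 3 → Fin 3 → Fin 4) : Fin 3 → Fin 3 → Fin 4 :=
  fun i j => add4 (add4 (mul4 (A i 0) (B 0 j)) (mul4 (A i 1) (B 1 j))) (mul4 (A i 2) (B 2 j))

/-- Determinant on tables. -/
def det4 (A : Fin 3 → Fin 3 → Fin 4) : Fin 4 :=
  add4 (add4 (add4 (mul4 (mul4 (A 0 0) (A 1 1)) (A 2 2)) (mul4 (mul4 (A 0 0) (A 1 2)) (A 2 1)))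
    (add4 (mul4 (mul4 (A 0 1) (A 1 0)) (A 2 2)) (mul4 (mul4 (A 0 1) (A 1 2)) (A 2 0))))
    (add4 (mul4 (mul4 (A 0 2) (A 1 0)) (A 2 1)) (mul4 (mul4 (A 0 2) (A 1 1)) (A 2 0)))

section
variable [CharP F 2] {ω : F} (hω : ω * ω = 1 + ω)
include hω

theorem val4_add (a b : Fin 4) : val4 ω (add4 a b) = val4 ω a + val4 ω b := by
  have h2 : (2 : F) = 0 := CharTwo.two_eq_zero
  fin_cases a <;> fin_cases b <;> simp [val4, add4] <;> grind

theorem val4_mul (a b : Fin 4) : val4 ω (mul4 a b) = val4 ω a * val4 ω b := by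
  have h2 : (2 : F) = 0 := CharTwo.two_eq_zero
  fin_cases a <;> fin_cases b <;> simp [val4, mul4] <;> grind

theorem val4_mulM (A B : Fin 3 → Fin 3 → Fin 4) :
    Matrix.of (fun i j => val4 ω (mulM4 A B i j))
      = Matrix.of (fun i j => val4 ω (A i j)) * Matrix.of (fun i j => val4 ω (B i j)) := by
  ext i j
  simp [mulM4, val4_add hω, val4_mul hω, Matrix.mul_apply, Fin.sum_univ_three]

theorem val4_det (A : Fin 3 → Fin 3 → Fin 4) :
    (Matrix.of (fun i j => val4 ω (A i j))).det = val4 ω (det4 A) := by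
  rw [det_fin_three]
  simp only [Matrix.of_apply, det4, val4_add hω, val4_mul hω, CharTwo.sub_eq_add]
  ring

end

/-- Membership of a tabulated matrix. -/
def Mem4 (C : Subgroup (Matrix.SpecialLinearGroup (Fin 3) F)) (ω : F)
    (A : Fin 3 → Fin 3 → Fin 4) : Prop :=
  ∃ x ∈ C, x.1 = Matrix.of (fun i j => val4 ω (A i j))

/-- Existence, for q = 4. -/
theorem exists_pair_of_card_four [Fintype F] (h4 : Fintype.card F = 4) :
    ∃ u g : Matrix.SpecialLinearGroup (Fin 3) F,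
      IsNilpotent (u.1 - 1) ∧ (u.1 - 1) ^ (3 - 1) ≠ 0 ∧
        Subgroup.closure ({u, g * u * g⁻¹} : Set (Matrix.SpecialLinearGroup (Fin 3) F)) = ⊤ := by
  classical
  have h2 : (2 : F) = 0 := by
    have h : ((Fintype.card F : ℕ) : F) = 0 := Nat.cast_card_eq_zero F
    rw [h4] at h
    have : (2 : F) * 2 = 0 := by rw [← h]; norm_num
    exact mul_self_eq_zero.1 this
  have : CharP F 2 := CharTwo.of_one_ne_zero_of_two_eq_zero one_ne_zero h2
  obtain ⟨ω, hω0, hω1⟩ : ∃ y : F, y ≠ 0 ∧ y ≠ 1 := by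
    by_contra h
    push Not at h
    have : (Finset.univ : Finset F) ⊆ {0, 1} := fun y _ => by
      rcases eq_or_ne y 0 with rfl | hy
      · simp
      · simp [h y hy]
    have := (Finset.card_le_card this).trans Finset.card_le_two
    rw [Finset.card_univ, h4] at this
    omega
  have hω : ω * ω = 1 + ω := by
    have h3 : ω ^ 3 = 1 := by simpa [h4] using FiniteField.pow_card_sub_one_eq_one ω hω0
    have : (ω - 1) * (ω * ω + ω + 1) = 0 := by linear_combination h3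
    have := (mul_eq_zero.1 this).resolve_left (sub_ne_zero.2 hω1)
    linear_combination this - (1 + ω) * h2
  let g : Matrix.SpecialLinearGroup (Fin 3) F :=
    ⟨Matrix.of fun i j => val4 ω ((![![1, 2, 2], ![2, 3, 0], ![0, 2, 2]] : Fin 3 → Fin 3 → Fin 4) i j),
      by rw [val4_det hω]; rfl⟩
  refine ⟨lowerUni3 F, g, lowerUni3_regular.1, lowerUni3_regular.2, ?_⟩
  set C := Subgroup.closure
    ({lowerUni3 F, g * lowerUni3 F * g⁻¹} : Set (Matrix.SpecialLinearGroup (Fin 3) F))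
  have hL : Mem4 C ω ![![1, 0, 0], ![1, 1, 0], ![0, 1, 1]] := by
    refine ⟨lowerUni3 F, Subgroup.subset_closure (by simp), ?_⟩
    ext i j
    fin_cases i <;> fin_cases j <;> simp [lowerUni3, val4]
  have hv : Mem4 C ω ![![2, 3, 3], ![3, 1, 3], ![3, 3, 2]] := by
    refine ⟨g * lowerUni3 F * g⁻¹, Subgroup.subset_closure (by simp), ?_⟩
    obtain ⟨x, -, hx⟩ := hL
    let v : Matrix.SpecialLinearGroup (Fin 3) F :=
      ⟨Matrix.of fun i j => val4 ω ((![![2, 3, 3], ![3, 1, 3], ![3, 3, 2]] : Fin 3 → Fin 3 → Fin 4) i j),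
        by rw [val4_det hω]; rfl⟩
    have : g * lowerUni3 F = v * g := by
      apply Subtype.ext
      rw [Matrix.SpecialLinearGroup.coe_mul, Matrix.SpecialLinearGroup.coe_mul,
        show (lowerUni3 F).1 = Matrix.of (fun i j => val4 ω
          ((![![1, 0, 0], ![1, 1, 0], ![0, 1, 1]] : Fin 3 → Fin 3 → Fin 4) i j)) from ?_]
      · rw [← val4_mulM hω, ← val4_mulM hω]
        exact congrArg (fun A : Fin 3 → Fin 3 → Fin 4 => Matrix.of fun i j => val4 ω (A i j))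
          (by decide : mulM4 ![![1, 2, 2], ![2, 3, 0], ![0, 2, 2]] ![![1, 0, 0], ![1, 1, 0], ![0, 1, 1]]
            = mulM4 ![![2, 3, 3], ![3, 1, 3], ![3, 3, 2]] ![![1, 2, 2], ![2, 3, 0], ![0, 2, 2]])
      · ext i j
        fin_cases i <;> fin_cases j <;> simp [lowerUni3, val4]
    rw [this, mul_inv_cancel_right]
  have hstep : ∀ {A B : Fin 3 → Fin 3 → Fin 4}, Mem4 C ω A → Mem4 C ω B →
      ∀ R : Fin 3 → Fin 3 → Fin 4, mulM4 A B = R → Mem4 C ω R := by
    rintro A B ⟨x, hx, hxe⟩ ⟨y, hy, hye⟩ R rfl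
    exact ⟨x * y, C.mul_mem hx hy, by
      rw [Matrix.SpecialLinearGroup.coe_mul, hxe, hye, val4_mulM hω]⟩
  have w0_1 := hstep hL hv (![![2, 3, 3], ![1, 2, 0], ![0, 2, 1]]) (by decide)
  have w0_2 := hstep w0_1 hv (![![3, 0, 2], ![3, 1, 2], ![2, 1, 3]]) (by decide)
  have w0_3 := hstep w0_2 hv (![![0, 3, 1], ![3, 2, 2], ![2, 2, 3]]) (by decide)
  have w0_4 := hstep w0_3 hL (![![3, 2, 1], ![1, 0, 2], ![0, 1, 3]]) (by decide)
  have w0_5 := hstep w0_4 hv (![![3, 3, 1], ![3, 2, 0], ![1, 3, 2]]) (by decide)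
  have w0_6 := hstep w0_5 hL (![![0, 2, 1], ![1, 2, 0], ![2, 1, 2]]) (by decide)
  have w0_7 := hstep w0_6 hv (![![2, 1, 3], ![3, 1, 2], ![1, 1, 1]]) (by decide)
  have w0_8 := hstep w0_7 hv (![![2, 2, 3], ![3, 2, 2], ![2, 1, 2]]) (by decide)
  have w0_9 := hstep w0_8 hv (![![0, 1, 1], ![1, 1, 0], ![1, 1, 1]]) (by decide)
  have w0_10 := hstep w0_9 hL (![![1, 0, 1], ![0, 1, 0], ![0, 0, 1]]) (by decide)
  have t0 : Mem4 C ω ![![1, 0, 1], ![0, 1, 0], ![0, 0, 1]] := w0_10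
  have w1_1 := hstep hL hL (![![1, 0, 0], ![0, 1, 0], ![1, 0, 1]]) (by decide)
  have w1_2 := hstep w1_1 hv (![![2, 3, 3], ![3, 1, 3], ![1, 0, 1]]) (by decide)
  have w1_3 := hstep w1_2 hv (![![3, 0, 2], ![0, 1, 0], ![1, 0, 1]]) (by decide)
  have w1_4 := hstep w1_3 hL (![![3, 2, 2], ![1, 1, 0], ![1, 1, 1]]) (by decide)
  have w1_5 := hstep w1_4 hL (![![1, 0, 2], ![0, 1, 0], ![0, 0, 1]]) (by decide)
  have t1 : Mem4 C ω ![![1, 0, 2], ![0, 1, 0], ![0, 0, 1]] := w1_5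
  refine eq_top_of_lower_and_root C (Subgroup.subset_closure (by simp)) fun t => ?_
  set K := centres (C.map Matrix.SpecialLinearGroup.toGL) (eVec 3 F 2) with hK
  have conv : ∀ (c : Fin 4), Mem4 C ω ![![1, 0, c], ![0, 1, 0], ![0, 0, 1]] →
      val4 ω c • eVec 3 F 0 ∈ K := by
    rintro c ⟨x, hx, hxe⟩
    refine ⟨by simp [eVec, dotProduct, Fin.sum_univ_three], Subgroup.mem_map.2 ⟨x, hx, ?_⟩⟩
    apply Units.ext
    rw [toGL_val, hxe, transv_val (by simp [eVec, dotProduct, Fin.sum_univ_three])]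
    ext i j
    fin_cases i <;> fin_cases j <;> simp [val4, eVec, vecMulVec, Matrix.one_apply]
  have k1 : (1 : F) • eVec 3 F 0 ∈ K := conv 1 t0
  have kω : ω • eVec 3 F 0 ∈ K := conv 2 t1
  have hall : t = 0 ∨ t = 1 ∨ t = ω ∨ t = 1 + ω := by
    have hinj : Function.Injective (val4 ω) := by
      intro a b h
      fin_cases a <;> fin_cases b <;> simp [val4] at h ⊢ <;> grind
    have hb : Function.Bijective (val4 ω) :=
      (Fintype.bijective_iff_injective_and_card _).2 ⟨hinj, by simp [h4]⟩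
    obtain ⟨c, rfl⟩ := hb.2 t
    fin_cases c <;> simp [val4]
  rcases hall with rfl | rfl | rfl | rfl
  · rw [zero_smul]; exact K.zero_mem
  · exact k1
  · exact kω
  · rw [add_smul]; exact K.add_mem k1 kω

end CfsgLib.Generation
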